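import Mathlib
import Cfsg.Prelude.Def_LieTypeChar

/-!
# HUB BR (bounded rank part of S5715, S5716): interface

`G` a finite quasisimple classical group, `ρ` its natural representation over the algebraically closed field `K`,
`F ⊆ K` the (finite) field of the root groups `{1 + t a : t ∈ F}`.

* `ad ρ` : the conjugation representation on `End V` (so `ad (ad ρ)` acts on `End (End V)`);
* `Inv ρ H U`, `Dns ρ H` (every `H`-invariant subspace is `G`-invariant), `Irr ρ H`, `Ssm ρ H`;
* `cent ρ N` : the centraliser of `ρ N` in `End V`;  `TPrim ρ`;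
* `OneP F x`, `PolyDeg ρ F x e` : one-parameter subgroups which generate `G` and act by polynomials of degree `≤ e`;
* `TrGen F σ y` : `(tr σ y) ^ dim` lies in no proper subfield of `F`;
* `Row C q G` : everything the counting needs;
* `CRG p M U` : the theorem of Curtis and Richen.
-/

set_option autoImplicit false

namespace Cfsg.Agent.H883.BR

universe u v w

section rep

variable {K : Type u} {V : Type v} {G : Type w} [Field K] [AddCommGroup V] [Module K V] [Group G]

/-- the conjugation representation on `End V` -/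
def ad (ρ : G →* Module.End K V) : G →* Module.End K (Module.End K V) where
  toFun g :=
    { toFun := fun X => ρ g * X * ρ g⁻¹
      map_add' := fun X Y => by rw [mul_add, add_mul]
      map_smul' := fun c X => by rw [mul_smul_comm, smul_mul_assoc, RingHom.id_apply] }
  map_one' := by
    refine LinearMap.ext fun X => ?_
    change ρ 1 * X * ρ 1⁻¹ = X
    rw [inv_one, map_one, one_mul, mul_one]
  map_mul' g h := by
    refine LinearMap.ext fun X => ?_
    change ρ (g * h) * X * ρ (g * h)⁻¹ = ρ g * (ρ h * X * ρ h⁻¹) * ρ g⁻¹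
    rw [mul_inv_rev, map_mul, map_mul]
    simp only [mul_assoc]

theorem ad_apply (ρ : G →* Module.End K V) (g : G) (X : Module.End K V) : ad ρ g X = ρ g * X * ρ g⁻¹ := rfl

/-- invariant subspaces -/
def Inv (ρ : G →* Module.End K V) (H : Subgroup G) (U : Submodule K V) : Prop := ∀ h ∈ H, ∀ v ∈ U, ρ h v ∈ U

/-- every `H`-invariant subspace is `G`-invariant -/
def Dns (ρ : G →* Module.End K V) (H : Subgroup G) : Prop := ∀ U : Submodule K V, Inv ρ H U → Inv ρ ⊤ U

/-- irreducible -/
def Irr (ρ : G →* Module.End K V) (H : Subgroup G) : Prop :=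
  Nontrivial V ∧ ∀ U : Submodule K V, Inv ρ H U → U = ⊥ ∨ U = ⊤

/-- semisimple -/
def Ssm (ρ : G →* Module.End K V) (H : Subgroup G) : Prop :=
  ∀ U : Submodule K V, Inv ρ H U → ∃ U' : Submodule K V, Inv ρ H U' ∧ IsCompl U U'

/-- the centraliser of `ρ N` in `End V` -/
def cent (ρ : G →* Module.End K V) (N : Subgroup G) : Submodule K (Module.End K V) where
  carrier := {X | ∀ n ∈ N, X * ρ n = ρ n * X}
  zero_mem' := fun n _ => by rw [zero_mul, mul_zero]
  add_mem' := fun {X Y} hX hY n hn => by rw [add_mul, mul_add, hX n hn, hY n hn]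
  smul_mem' := fun c X hX n hn => by rw [smul_mul_assoc, mul_smul_comm, hX n hn]

theorem mem_cent {ρ : G →* Module.End K V} {N : Subgroup G} {X : Module.End K V} :
    X ∈ cent ρ N ↔ ∀ n ∈ N, X * ρ n = ρ n * X := Iff.rfl

/-- `ρ` is primitive and tensor-indecomposable, in the form we need -/
def TPrim (ρ : G →* Module.End K V) : Prop :=
  ∀ N : Subgroup G, Ssm ρ N → Inv (ad ρ) ⊤ (cent ρ N) →
    (∀ n ∈ N, ∃ c : K, ρ n = c • 1) ∨ ∀ X ∈ cent ρ N, ∃ c : K, X = c • 1

/-- one-parameter subgroups over the finite field `F` -/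
structure OneP (F : Subfield K) {ι : Type*} (x : ι → F → G) : Prop where
  add : ∀ i s t, x i (s + t) = x i s * x i t
  gen : Subgroup.closure {g : G | ∃ i t, x i t = g} = ⊤

/-- the one-parameter subgroups act by polynomials of degree at most `e` -/
def PolyDeg (ρ : G →* Module.End K V) (F : Subfield K) {ι : Type*} (x : ι → F → G) (e : ℕ) : Prop :=
  ∀ i, ∃ c : ℕ → Module.End K V, ∀ t : F, ρ (x i t) = ∑ j ∈ Finset.range (e + 1), (t : K) ^ j • c j

/-- `(tr σ y) ^ dim` lies in no proper subfield of `F` -/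
def TrGen (F : Subfield K) (σ : G →* Module.End K V) (y : G) : Prop :=
  ∀ F' : Subfield K, F' < F → (LinearMap.trace K V (σ y)) ^ Module.finrank K V ∉ F'

/-- `a` is a root element of `H` : `a ^ 2 = 0` and `1 + t a ∈ H` for `t ∈ F` -/
def Rt (ρ : G →* Module.End K V) (F : Subfield K) (H : Subgroup G) (a : Module.End K V) : Prop :=
  a * a = 0 ∧ ∀ t ∈ F, ∃ g ∈ H, ρ g = 1 + t • a

end rep

/-- quasisimple -/
structure QS (G : Type w) [Group G] : Prop where
  perf : commutator G = ⊤
  nt : Nontrivial G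
  max : ∀ N : Subgroup G, N.Normal → N ≤ Subgroup.center G ∨ N = ⊤

/-- **everything the counting needs** -/
def Row (C q : ℕ) (G : Type w) [Group G] : Prop :=
  ∃ (K : Type u) (_ : Field K) (F : Subfield K) (ι : Type w) (x : ι → F → G)
    (V W W' : Type u) (_ : AddCommGroup V) (_ : Module K V) (_ : AddCommGroup W) (_ : Module K W)
    (_ : AddCommGroup W') (_ : Module K W')
    (R : G →* Module.End K V) (σ : G →* Module.End K W) (σ' : G →* Module.End K W'),
    Finite F ∧ Nat.card F = q ∧ OneP F x ∧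
    FiniteDimensional K V ∧ FiniteDimensional K W ∧ FiniteDimensional K W' ∧
    Module.finrank K V ≤ C ∧ Module.finrank K W ≤ C ∧ Module.finrank K W' ≤ C ∧
    PolyDeg R F x C ∧ PolyDeg σ F x C ∧ PolyDeg σ' F x C ∧
    (∃ g h : G, (LinearMap.trace K W (σ g)) ^ Module.finrank K W ≠ (LinearMap.trace K W (σ h)) ^ Module.finrank K W) ∧
    (∃ g h : G, (LinearMap.trace K W' (σ' g)) ^ Module.finrank K W' ≠
      (LinearMap.trace K W' (σ' h)) ^ Module.finrank K W') ∧
    (∀ k, 0 < k → k ≤ C → ∃ g : G, R (g ^ k) ≠ 1) ∧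
    ∀ H : Subgroup G, Dns R H → ∀ y ∈ H, (∀ k, 0 < k → k ≤ C → R (y ^ k) ≠ 1) → TrGen F σ y → TrGen F σ' y → H = ⊤

/-- **the theorem of Curtis and Richen** for the perfect central extension `M` of a simple group of Lie type of
characteristic `p`, `U` a Sylow `p`-subgroup: in an irreducible representation trivial on the centre, `U` fixes exactly
one line; the character of `N(U)` on this line and its stabiliser determine the representation. -/
structure CRG (p : ℕ) {M : Type w} [Group M] (U : Subgroup M) : Prop where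
  isP : IsPGroup p U
  ne : U ≠ ⊥
  one : ∀ (K : Type u) [Field K] [CharP K p] [IsAlgClosed K] (W : Type v) [AddCommGroup W] [Module K W]
    [FiniteDimensional K W] (σ : M →* Module.End K W), Irr σ ⊤ → (∀ z ∈ Subgroup.center M, σ z = 1) →
    ∃ w : W, w ≠ 0 ∧ ∀ v : W, (∀ u ∈ U, σ u v = v) ↔ ∃ c : K, v = c • w
  iso : ∀ (K : Type u) [Field K] [CharP K p] [IsAlgClosed K] (W W' : Type v) [AddCommGroup W] [Module K W]
    [FiniteDimensional K W] [AddCommGroup W'] [Module K W'] [FiniteDimensional K W']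
    (σ : M →* Module.End K W) (σ' : M →* Module.End K W'), Irr σ ⊤ → Irr σ' ⊤ →
    (∀ z ∈ Subgroup.center M, σ z = 1) → (∀ z ∈ Subgroup.center M, σ' z = 1) →
    ∀ (w : W) (w' : W'), w ≠ 0 → w' ≠ 0 → (∀ u ∈ U, σ u w = w) → (∀ u ∈ U, σ' u w' = w') →
    (∀ (b : M) (c : K), (∀ u ∈ U, b * u * b⁻¹ ∈ U) → (σ b w = c • w ↔ σ' b w' = c • w')) →
    (∀ g : M, (∃ c : K, σ g w = c • w) ↔ ∃ c : K, σ' g w' = c • w') →
    ∃ e : W ≃ₗ[K] W', ∀ g v, e (σ g v) = σ' g (e v)

end Cfsg.Agent.H883.BR
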