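import Cfsg.Agent.H545.BR.Str

/-!
# HUB BR, C4: normal subgroups of class two
-/

set_option autoImplicit false

namespace Cfsg.Agent.H883.BR

open Cfsg.Agent.H545.BR

universe u v w

/-- commutators are scalars of order dividing the dimension -/
theorem comm_scalar {K : Type u} [Field K] [IsAlgClosed K] {G : Type w} [Group G] {V : Type v}
    [AddCommGroup V] [Module K V] [FiniteDimensional K V] {ρ : G →* Module.End K V} {M : Subgroup G}
    (hM : Irr ρ M) (x y : G) (h : ∀ c ∈ M, c * (x * y * x⁻¹ * y⁻¹) = x * y * x⁻¹ * y⁻¹ * c) :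
    ∃ c : K, ρ (x * y * x⁻¹ * y⁻¹) = c • 1 ∧ c ^ Module.finrank K V = 1 := by
  have h1 : ρ (x * y * x⁻¹ * y⁻¹) ∈ cent ρ M := by
    intro n hn
    rw [← map_mul, ← map_mul, h n hn]
  obtain ⟨c, hc⟩ := cent_scalar hM h1
  refine ⟨c, hc, ?_⟩
  have h2 : LinearMap.det (ρ (x * y * x⁻¹ * y⁻¹)) = 1 := by
    have h3 : LinearMap.det (ρ x) * LinearMap.det (ρ x⁻¹) = 1 := by
      rw [← map_mul, ← map_mul, mul_inv_cancel, map_one, map_one]
    have h4 : LinearMap.det (ρ y) * LinearMap.det (ρ y⁻¹) = 1 := by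
      rw [← map_mul, ← map_mul, mul_inv_cancel, map_one, map_one]
    simp only [map_mul]
    calc LinearMap.det (ρ x) * LinearMap.det (ρ y) * LinearMap.det (ρ x⁻¹) * LinearMap.det (ρ y⁻¹)
        = (LinearMap.det (ρ x) * LinearMap.det (ρ x⁻¹)) * (LinearMap.det (ρ y) * LinearMap.det (ρ y⁻¹)) := by ring
      _ = 1 := by rw [h3, h4, one_mul]
  rw [hc, LinearMap.det_smul, map_one, mul_one] at h2
  exact h2

theorem card_mu_le {K : Type u} [Field K] (n : ℕ) (hn : 0 < n) :
    Finite {c : K // c ^ n = 1} ∧ Nat.card {c : K // c ^ n = 1} ≤ n := by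
  classical
  have h1 : ∀ c : {c : K // c ^ n = 1}, (c : K) ∈ (Polynomial.nthRoots n (1 : K)).toFinset := by
    rintro ⟨c, hc⟩
    rw [Multiset.mem_toFinset, Polynomial.mem_nthRoots hn]
    exact hc
  let f : {c : K // c ^ n = 1} → (Polynomial.nthRoots n (1 : K)).toFinset := fun c => ⟨c, h1 c⟩
  have hf : Function.Injective f := by
    rintro ⟨c, hc⟩ ⟨c', hc'⟩ h
    have := congrArg Subtype.val h
    exact Subtype.ext this
  refine ⟨Finite.of_injective f hf, (Nat.card_le_card_of_injective f hf).trans ?_⟩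
  rw [Nat.card_eq_fintype_card, Fintype.card_coe]
  exact (Multiset.toFinset_card_le _).trans (Polynomial.card_nthRoots n 1)

theorem card_quot_center_le {K : Type u} [Field K] [IsAlgClosed K] {G : Type w} [Group G] [Finite G] {V : Type v}
    [AddCommGroup V] [Module K V] [FiniteDimensional K V] {ρ : G →* Module.End K V} (hinj : Function.Injective ρ)
    {M : Subgroup G} (hM : Irr ρ M)
    (h2 : ∀ a ∈ M, ∀ b ∈ M, ∀ c ∈ M, c * (a * b * a⁻¹ * b⁻¹) = a * b * a⁻¹ * b⁻¹ * c) :
    Nat.card (M ⧸ Subgroup.center M) ≤ Module.finrank K V ^ (Module.finrank K V ^ 2) := by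
  classical
  have := hM.1
  have hn : 0 < Module.finrank K V := Module.finrank_pos
  obtain ⟨n, hnn⟩ : ∃ n, n = Module.finrank K V := ⟨_, rfl⟩
  rw [← hnn] at hn ⊢
  obtain ⟨hfinμ, hcardμ⟩ := card_mu_le (K := K) n hn
  obtain ⟨b, hbS, hbspan, hbind⟩ := exists_linearIndependent K (Set.range fun m : M => ρ m)
  have hbfin : Finite b := hbind.finite
  have hcardb : Nat.card b ≤ n ^ 2 := by
    have : Fintype b := Fintype.ofFinite b
    have h1 := hbind.fintype_card_le_finrank
    rw [Module.finrank_linearMap, ← hnn] at h1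
    rw [Nat.card_eq_fintype_card, sq]
    exact h1
  have hc : ∀ a m : M, ∃ c : K, ρ ((a : G) * m * (a : G)⁻¹ * (m : G)⁻¹) = c • 1 ∧ c ^ n = 1 := by
    intro a m
    obtain ⟨c, hc1, hc2⟩ := comm_scalar hM (a : G) (m : G) (h2 a a.2 m m.2)
    exact ⟨c, hc1, by rw [hnn]; exact hc2⟩
  choose cc hcc hcn using hc
  have hm : ∀ X : b, ∃ m : M, ρ (m : G) = X := fun X => hbS X.2
  choose mm hmm using hm
  let f : M → (b → {c : K // c ^ n = 1}) := fun a X => ⟨cc a (mm X), hcn a (mm X)⟩
  have hconj : ∀ (a : M) (X : b), ρ a * (X : Module.End K V) * ρ (a : G)⁻¹ = (f a X : K) • (X : Module.End K V) := by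
    intro a X
    rw [← hmm X, ← map_mul, ← map_mul]
    have h1 : (a : G) * (mm X : G) * (a : G)⁻¹ = ((a : G) * (mm X : G) * (a : G)⁻¹ * (mm X : G)⁻¹) * (mm X : G) := by
      group
    rw [h1, map_mul, hcc, smul_mul_assoc, one_mul]
  have hf : ∀ a a' : M, f a = f a' → a⁻¹ * a' ∈ Subgroup.center M := by
    intro a a' haa
    have hX : ∀ X : b, ρ ((a : G)⁻¹ * a') * (X : Module.End K V) = (X : Module.End K V) * ρ ((a : G)⁻¹ * a') := by
      intro X
      have h1 := hconj a X
      have h3 := hconj a' X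
      rw [← haa, ← h1] at h3
      have h4 : ρ (a' : G)⁻¹ * ρ (a' : G) = 1 := by rw [← map_mul, inv_mul_cancel, map_one]
      have h5 : ρ (a : G)⁻¹ * ρ (a : G) = 1 := by rw [← map_mul, inv_mul_cancel, map_one]
      calc ρ ((a : G)⁻¹ * a') * (X : Module.End K V)
          = ρ (a : G)⁻¹ * (ρ (a' : G) * (X : Module.End K V) * (ρ (a' : G)⁻¹ * ρ (a' : G))) := by
            rw [h4, mul_one, map_mul, mul_assoc]
        _ = ρ (a : G)⁻¹ * (ρ (a' : G) * (X : Module.End K V) * ρ (a' : G)⁻¹) * ρ (a' : G) := by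
            simp only [mul_assoc]
        _ = ρ (a : G)⁻¹ * (ρ (a : G) * (X : Module.End K V) * ρ (a : G)⁻¹) * ρ (a' : G) := by rw [h3]
        _ = (ρ (a : G)⁻¹ * ρ (a : G)) * (X : Module.End K V) * (ρ (a : G)⁻¹ * ρ (a' : G)) := by
            simp only [mul_assoc]
        _ = (X : Module.End K V) * ρ ((a : G)⁻¹ * a') := by rw [h5, one_mul, map_mul]
    let Cx : Submodule K (Module.End K V) :=
      { carrier := {X | ρ ((a : G)⁻¹ * a') * X = X * ρ ((a : G)⁻¹ * a')}
        zero_mem' := by change _ * (0 : Module.End K V) = 0 * _; rw [mul_zero, zero_mul]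
        add_mem' := fun {X Y} hX hY => by
          change _ * (X + Y) = (X + Y) * _
          rw [mul_add, add_mul]
          exact congrArg₂ (· + ·) hX hY
        smul_mem' := fun c X hX => by
          change _ * (c • X) = (c • X) * _
          rw [mul_smul_comm, smul_mul_assoc]
          exact congrArg (c • ·) hX }
    have hle : Submodule.span K (Set.range fun m : M => ρ m) ≤ Cx := by
      rw [← hbspan, Submodule.span_le]
      intro X hXb
      exact hX ⟨X, hXb⟩
    rw [Subgroup.mem_center_iff]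
    intro m
    apply Subtype.ext
    apply hinj
    have h6 : ρ (m : G) ∈ Cx := hle (Submodule.subset_span ⟨m, rfl⟩)
    change ρ ((m : G) * ((a : G)⁻¹ * a')) = ρ (((a : G)⁻¹ * a') * m)
    rw [map_mul, map_mul ρ ((a : G)⁻¹ * a')]
    exact h6.symm
  let F : (M ⧸ Subgroup.center M) → (b → {c : K // c ^ n = 1}) := fun q => f q.out
  have hF : Function.Injective F := by
    intro q q' h
    have h1 := hf _ _ h
    rw [← QuotientGroup.out_eq' q, ← QuotientGroup.out_eq' q']
    exact QuotientGroup.eq.2 h1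
  have hle := Nat.card_le_card_of_injective F hF
  rw [Nat.card_fun] at hle
  exact hle.trans ((Nat.pow_le_pow_left hcardμ _).trans (Nat.pow_le_pow_right hn hcardb))

/-- a bounded power acts trivially on `M / Z(M)` -/
theorem pow_trivial {G : Type w} [Group G] [Finite G] {H M : Subgroup G}
    (hn : ∀ h ∈ H, ∀ m ∈ M, h * m * h⁻¹ ∈ M) {y : G} (hy : y ∈ H) {N : ℕ}
    (hN : Nat.card (M ⧸ Subgroup.center M) ≤ N) :
    ∀ m : M, ∀ c ∈ M, c * (y ^ N.factorial * m * (y ^ N.factorial)⁻¹ * (m : G)⁻¹) =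
      (y ^ N.factorial * m * (y ^ N.factorial)⁻¹ * (m : G)⁻¹) * c := by
  classical
  -- the action on `M`
  let Φ : H →* MulAut M :=
    { toFun := fun h =>
        { toFun := fun m => ⟨h * m * (h : G)⁻¹, hn h h.2 m m.2⟩
          invFun := fun m => ⟨(h : G)⁻¹ * m * h, by
            have := hn (h : G)⁻¹ (H.inv_mem h.2) m m.2
            rwa [inv_inv] at this⟩
          left_inv := fun m => by
            apply Subtype.ext
            change (h : G)⁻¹ * (h * m * (h : G)⁻¹) * h = m
            group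
          right_inv := fun m => by
            apply Subtype.ext
            change (h : G) * ((h : G)⁻¹ * m * h) * (h : G)⁻¹ = m
            group
          map_mul' := fun a b => by
            apply Subtype.ext
            change (h : G) * (a * b) * (h : G)⁻¹ = (h * a * (h : G)⁻¹) * (h * b * (h : G)⁻¹)
            group }
      map_one' := by
        refine MulEquiv.ext fun m => Subtype.ext ?_
        change (1 : G) * m * (1 : G)⁻¹ = m
        group
      map_mul' := fun a b => by
        refine MulEquiv.ext fun m => Subtype.ext ?_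
        change (a * b : G) * m * (a * b : G)⁻¹ = a * (b * m * (b : G)⁻¹) * (a : G)⁻¹
        group }
  have hcen : ∀ α : MulAut M, (Subgroup.center M).map (α : M →* M) = Subgroup.center M := fun α =>
    Subgroup.characteristic_iff_map_eq.1 inferInstance α
  let Ψ : H →* Equiv.Perm (M ⧸ Subgroup.center M) :=
    { toFun := fun h => (QuotientGroup.congr _ _ (Φ h) (hcen (Φ h))).toEquiv
      map_one' := by
        refine Equiv.ext fun q => ?_
        induction q using QuotientGroup.induction_on with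
        | H m =>
          change ((Φ 1 m : M) : M ⧸ Subgroup.center M) = (m : M ⧸ Subgroup.center M)
          rw [map_one]
          rfl
      map_mul' := fun a b => by
        refine Equiv.ext fun q => ?_
        induction q using QuotientGroup.induction_on with
        | H m =>
          change ((Φ (a * b) m : M) : M ⧸ Subgroup.center M) = ((Φ a (Φ b m) : M) : M ⧸ Subgroup.center M)
          rw [map_mul]
          rfl }
  have hfin : Finite (M ⧸ Subgroup.center M) := inferInstance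
  have h0 : orderOf (Ψ ⟨y, hy⟩) ∣ N.factorial := by
    refine (orderOf_dvd_natCard _).trans ?_
    rw [Nat.card_perm]
    exact Nat.factorial_dvd_factorial hN
  have h1 : Ψ (⟨y, hy⟩ ^ N.factorial) = 1 := by rw [map_pow]; exact orderOf_dvd_iff_pow_eq_one.1 h0
  intro m c hc
  have h2 : (Ψ (⟨y, hy⟩ ^ N.factorial)) (m : M ⧸ Subgroup.center M) = (m : M ⧸ Subgroup.center M) := by rw [h1]; rfl
  have h3 : ((Φ (⟨y, hy⟩ ^ N.factorial) m : M) : M ⧸ Subgroup.center M) = (m : M ⧸ Subgroup.center M) := h2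
  have h4 : Φ (⟨y, hy⟩ ^ N.factorial) m * m⁻¹ ∈ Subgroup.center M := by
    rw [← QuotientGroup.eq_one_iff, QuotientGroup.mk_mul, QuotientGroup.mk_inv, h3, mul_inv_cancel]
  exact congrArg Subtype.val (Subgroup.mem_center_iff.1 h4 ⟨c, hc⟩)

/-- **C4** -/
theorem class_two (n : ℕ) : ∃ B : ℕ, ∀ (K : Type u) [Field K] [IsAlgClosed K] (G : Type w) [Group G] [Finite G]
    (V : Type v) [AddCommGroup V] [Module K V] [FiniteDimensional K V] (ρ : G →* Module.End K V),
    Module.finrank K V = n → Function.Injective ρ → ∀ H M : Subgroup G, M ≤ H →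
    (∀ h ∈ H, ∀ m ∈ M, h * m * h⁻¹ ∈ M) → Irr ρ M →
    (∀ a ∈ M, ∀ b ∈ M, ∀ c ∈ M, c * (a * b * a⁻¹ * b⁻¹) = a * b * a⁻¹ * b⁻¹ * c) →
    ∀ y ∈ H, ∃ k, 0 < k ∧ k ≤ B ∧ ∃ c : K, ρ (y ^ k) = c • 1 := by
  refine ⟨(n ^ (n ^ 2)).factorial * n, fun K _ _ G _ _ V _ _ _ ρ hdim hinj H M hMH hn hM h2 y hy => ?_⟩
  have := hM.1
  have hpos : 0 < n := by rw [← hdim]; exact Module.finrank_pos
  have hcard := card_quot_center_le hinj hM h2
  rw [hdim] at hcard
  have hk := pow_trivial hn hy hcard
  obtain ⟨t, ht⟩ : ∃ t, t = y ^ (n ^ (n ^ 2)).factorial := ⟨_, rfl⟩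
  rw [← ht] at hk
  refine ⟨(n ^ (n ^ 2)).factorial * n, Nat.mul_pos (Nat.factorial_pos _) hpos, le_rfl, ?_⟩
  rw [pow_mul, ← ht]
  apply cent_scalar hM
  intro m hm
  obtain ⟨c, hc, hcn⟩ := comm_scalar hM t m (hk ⟨m, hm⟩)
  rw [hdim] at hcn
  have h3 : ρ t * ρ m = c • (ρ m * ρ t) := by
    have h4 : t * m = (t * m * t⁻¹ * m⁻¹) * (m * t) := by group
    rw [← map_mul, h4, map_mul, hc, smul_mul_assoc, one_mul, map_mul]
  have h5 : ∀ j : ℕ, ρ t ^ j * ρ m = c ^ j • (ρ m * ρ t ^ j) := by
    intro j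
    induction j with
    | zero => simp
    | succ j ih =>
      rw [pow_succ, mul_assoc, h3, mul_smul_comm, ← mul_assoc, ih, smul_mul_assoc, smul_smul, mul_assoc, ← pow_succ,
        ← pow_succ']
  rw [map_pow, h5, hcn, one_smul]

end Cfsg.Agent.H883.BR
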