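import Cfsg.Agent.H748.BR.OmFrob
import Cfsg.Agent.H872.BR.OmPre
import Cfsg.Agent.H621.BR.Bridge
import Cfsg.Agent.H16.BR.ExtSo
import Cfsg.Agent.H212.BR.Pw

/-!
# HUB BR: the family `Ω(Q)`, `q` odd
-/

set_option autoImplicit false

namespace Cfsg.Agent.H883.BR

open Module Cfsg Cfsg.Agent.H748.BR Cfsg.Agent.LieClassical.OrthTrans

theorem fam_omega_odd (n : ℕ) (hn : 7 ≤ n) : ∃ q₀ : ℕ, ∀ (F : Type) [Field F] [Fintype F], q₀ ≤ Fintype.card F →
    Odd (Fintype.card F) → ∀ (ι : Type) [Fintype ι] [DecidableEq ι] (Q : QuadraticForm F (ι → F)),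
    Fintype.card ι = n → (∀ v, (∀ w, QuadraticMap.polar Q v w = 0) → v = 0) →
    HasFam.{0, 0} n (Fintype.card F) (Omega F (fun v : ι → F => Q v)) := by
  refine ⟨3 ^ n * (n * (n - 1) / 2).factorial + 3 + n + 2 * n ^ 2, ?_⟩
  intro F _ _ hq hodd ι _ _ Q hc hQ
  have hG : Good Q := H872.BR.good_om hQ (by omega)
  have hq1 : 1 ≤ 3 ^ n * (n * (n - 1) / 2).factorial :=
    Nat.mul_pos (pow_pos (by norm_num) n) (Nat.factorial_pos _)
  obtain ⟨p, hcp⟩ := CharP.exists F
  have hp : Fact p.Prime := ⟨CharP.char_is_prime F p⟩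
  have hp2 : p ≠ 2 := by
    rintro rfl
    obtain ⟨m, -, hm⟩ := FiniteField.card F 2
    rw [hm] at hodd
    have h1 : Even (2 ^ (m : ℕ)) := (Nat.even_pow).2 ⟨even_two, m.2.ne'⟩
    exact (Nat.not_even_iff_odd.2 hodd) h1
  have hKp : CharP (AlgebraicClosure F) p := H212.BR.charP_closure F p
  have h2 : (2 : AlgebraicClosure F) ≠ 0 := by
    intro h
    have h1 : ((2 : ℕ) : AlgebraicClosure F) = 0 := by exact_mod_cast h
    rw [CharP.cast_eq_zero_iff (AlgebraicClosure F) p] at h1
    exact hp2 ((Nat.prime_dvd_prime_iff_eq hp.out Nat.prime_two).1 h1)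
  have hcard : Nat.card (H212.BR.base F) = Fintype.card F := by
    rw [H212.BR.card_base, Nat.card_eq_fintype_card]
  have hfin : Finite (H212.BR.base F) := H212.BR.finite_base F
  have hdim : finrank (AlgebraicClosure F) (so (BK Q (AlgebraicClosure F))) = n * (n - 1) / 2 := by
    rw [H621.BR.om_finrank_so _ hG h2, hc]
  have hbig : 7 * 6 / 2 ≤ n * (n - 1) / 2 := Nat.div_le_div_right (Nat.mul_le_mul hn (by omega))
  have hdle : n * (n - 1) / 2 ≤ n ^ 2 := by
    rw [sq]
    exact (Nat.div_le_self _ _).trans (Nat.mul_le_mul le_rfl (Nat.sub_le _ _))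
  have hirr : Irr (V := so (BK Q (AlgebraicClosure F))) (H621.BR.oms Q (AlgebraicClosure F)) ⊤ :=
    H621.BR.oms_irr _ hG h2 fun U hU => hU
  subst hc
  refine ⟨p, Fintype.card ι * (Fintype.card ι - 1) / 2, AlgebraicClosure F, inferInstance, H212.BR.base F,
    ι → AlgebraicClosure F, so (BK Q (AlgebraicClosure F)), inferInstance, inferInstance, inferInstance, inferInstance,
    rho Q (AlgebraicClosure F), H621.BR.oms Q (AlgebraicClosure F), ?_⟩
  exact
  { prime := hp.out
    char := hKp
    closed := inferInstance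
    locfin := H212.BR.locfin F
    finF := hfin
    cardF := hcard
    finG := inferInstance
    qs := H872.BR.qs_om hQ (by omega)
    fdV := inferInstance
    fdW := inferInstance
    dimV := Module.finrank_fintype_fun_eq_card _
    two_le := by omega
    dimW := by rw [hdim]; exact hdle
    inj := rho_inj
    irr := H621.BR.om_irr _ hG
    tprim := H872.BR.tprim_om _ hQ (by omega) (by omega) hcard
    root := ⟨_, H621.BR.omx (AlgebraicClosure F) hG, H621.BR.om_oneP _ hG, H621.BR.om_polyDeg _ hG,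
      H621.BR.oms_polyDeg _ hG h2⟩
    inh := fun M hM => H621.BR.oms_irr _ hG h2 hM
    cen := fun z c hz => H621.BR.oms_cen _ hz
    ext := by
      intro M U hUM hU hU1 _ w hw hfix
      obtain ⟨z, hz, a, ha0, haa, hza, hb, v0, v1, hv0, h00, h01, h10, h11, hav⟩ :=
        H16.BR.ext_so_fam (B := BK Q (AlgebraicClosure F)) (ρ := rho Q (AlgebraicClosure F)) hp2
          (by rw [Module.finrank_fintype_fun_eq_card]; omega) (fun x y => BK_comm x y)
          (fun u hu => BK_nondeg hQ hu) (fun g v w => BK_rho g v w) rho_inj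
          (σ := H621.BR.oms Q (AlgebraicClosure F)) (so (BK Q (AlgebraicClosure F))).subtype
          (Submodule.subtype_injective _) (fun X => by
            constructor
            · intro hX
              exact ⟨⟨X, fun v w => hX v w⟩, rfl⟩
            · rintro ⟨Y, rfl⟩
              exact fun v w => Y.2 v w) (fun g w => H621.BR.coe_oms _ g w) hU hU1 w hw hfix
      refine ⟨z, hz, a, ha0, haa, hza, fun b _ _ c hbc => hb b c hbc, fun S hS haS => ?_⟩
      refine H621.BR.om_le_finrank _ hG h2 hS haS ?_ ha0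
      rw [hav, mem_so]
      exact H16.BR.sk_wd (B := BK Q (AlgebraicClosure F)) (fun x y => BK_comm x y) v0 v1
    trF := fun g => trace_sub (S := so (BK Q (AlgebraicClosure F))) (fun τ hτ X hX => frE_so hτ hX) g
      (fun X hX => so_inv g trivial X hX) (fun X => H621.BR.coe_oms _ g X)
    count := by
      intro M hM
      refine H212.BR.count_of_lt (c := 3 ^ Fintype.card ι) (e := 0) Fintype.card_pos ?_ ?_
      · have h1 := H872.BR.card_Omega_le Q hQ
        rw [Nat.card_eq_fintype_card (α := F), Nat.choose_two_right] at h1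
        rw [add_zero]
        exact h1
      · rw [pow_zero, mul_one]
        have h1 := H872.BR.idx_om hQ hn
          (c := 3 ^ Fintype.card ι * (Fintype.card ι * (Fintype.card ι - 1) / 2).factorial) (by omega) hM
        exact lt_of_le_of_lt (Nat.le_mul_of_pos_right _ Fintype.card_pos) h1
    trn := by
      obtain ⟨g, -, hg⟩ := H872.BR.exists_ne_one (H := ⊤) hirr (by rw [hdim]; omega)
      exact H583.BR.Trn.trn_of_irr (F := H212.BR.base F) (e := 2) hirr (H621.BR.om_oneP _ hG)
        (H621.BR.oms_polyDeg _ hG h2) (by rw [hcard, hdim]; omega) ⟨g, hg⟩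
    pw := H212.BR.pw_om _ hQ (by omega) }

end Cfsg.Agent.H883.BR
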