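import Cfsg.Agent.H883.BR.RowOf
import Cfsg.Agent.H883.BR.ClassTwo
import Cfsg.Agent.H50.BR.Str
import Cfsg.Agent.H601.BR.BigLie
import Cfsg.Agent.H887.BR.CRG

/-!
# HUB BR: the generic part without hypotheses
-/

set_option autoImplicit false

namespace Cfsg.Agent.H883.BR

universe u v w

/-- **C8** -/
theorem stStr : StStr.{u, v, w} := fun n =>
  Cfsg.Agent.H50.BR.str (fun n => class_two n) (fun n => Cfsg.Agent.H601.BR.big_lie n) n

/-- **D1 + D2** -/
theorem stCRG : StCRG.{u, v, w} := by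
  intro p _ M _ _ hM hs hl hz
  exact Cfsg.Agent.H887.BR.crg_cover hM hz (Cfsg.Agent.H887.BR.crg_simple hl)

/-- **D5** -/
theorem row_of_fam (n : ℕ) : ∃ C q₀ : ℕ, ∀ (p d q : ℕ) (K : Type u) [Field K] (F : Subfield K) (G : Type w) [Group G]
    (V W : Type u) [AddCommGroup V] [Module K V] [AddCommGroup W] [Module K W] (ρ : G →* Module.End K V)
    (σ : G →* Module.End K W), q₀ ≤ q → Fam p n d q F ρ σ → Row.{u, w} C q G :=
  row_of_fam' stStr stCRG n

/-- the same for `HasFam` -/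
theorem row_of_hasFam (n : ℕ) : ∃ C q₀ : ℕ, ∀ (q : ℕ) (G : Type w) [Group G], q₀ ≤ q → HasFam.{u, w} n q G →
    Row.{u, w} C q G := by
  obtain ⟨C, q₀, h⟩ := row_of_fam.{u, w} n
  refine ⟨C, q₀, fun q G _ hq hG => ?_⟩
  obtain ⟨p, d, K, _, F, V, W, _, _, _, _, ρ, σ, hF⟩ := hG
  exact h p d q K F G V W ρ σ hq hF

end Cfsg.Agent.H883.BR
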